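import Cfsg.Agent.H87.EPR.TwelveCard
import Cfsg.Agent.S5875
import Cfsg.Agent.H59.EP.UBFin
import Cfsg.Agent.H212.EP.Bound
import Cfsg.Agent.SignalizersComponents.SLQuasisimple

/-!
# S3499: the row S5875, `Ω_12^-(q)` (helper87)
-/

set_option autoImplicit false
set_option linter.unusedSectionVars false

namespace Cfsg.Agent.H87.EPR

open Cfsg Cfsg.Geo Cfsg.Agent.H419.EP Cfsg.Agent.H284 Cfsg.Agent.H59.EP
open scoped MatrixGroups

section

variable {Q : Type} [Group Q] [Finite Q] {A : Subgroup Q} {Γ : Subgroup (MulAut Q)}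

/-- **UB** for a group `A` with a given socle, `|A|` given by its factorisation. -/
theorem index_mul_le (hs : IsSimpleGroup Q) (h : EPT A Γ) {L : Type} [Group L] (hsoc : HasSoc A L)
    (hL : IsSimpleGroup L) (hLn : ¬ ∀ a b : L, a * b = b * a)
    (l : List (ℕ × ℕ)) {n g b : ℕ} (hA : Nat.card A = n) (h1 : ∀ x ∈ l, x.1.Prime ∧ 0 < x.2)
    (h2 : (l.map Prod.fst).Nodup) (h5 : ∀ x ∈ l, 5 ≤ x.1 → x.2 = 1) (hc : n = (l.map fun x => x.1 ^ x.2).prod)
    (hg : (l.map fun x => gal x.1 x.2).sum = g) (hb : n * (1 + (g * (n / 6) + n ^ 2 / 60) * (2 * (n / 6))) ≤ b) :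
    Nat.card Q ≤ b := by
  have h3 := EPT.index_le_fin hs h (fun K hK hKn hKab => hsoc.no_abelian hL hLn hK hKn hKab) l h1 h2 h5 (hA.trans hc)
  rw [hA, hg] at h3
  rw [← A.card_mul_index, hA]
  exact (Nat.mul_le_mul_left n h3).trans hb

end

theorem not_comm_of_simple {L : Type} [Group L] [Finite L] (hL : IsSimpleGroup L) {n : ℕ} (hn : Nat.card L = n)
    (hp : ¬ n.Prime) : ¬ ∀ a b : L, a * b = b * a := by
  intro h
  apply hp
  rw [← hn]
  let _ : CommGroup L := { (inferInstance : Group L) with mul_comm := h }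
  exact IsSimpleGroup.prime_card

section Rows

variable {Q : Type} [Group Q] [Finite Q] {A : Subgroup Q} {Γ : Subgroup (MulAut Q)}

/-- `|A| = |L| t`, `t ∣ |Aut L| / |L|` -/
theorem card_of_soc {L : Type} [Group L] (hsoc : HasSoc A L) {n k : ℕ} (hn : Nat.card L = n) (hn0 : 0 < n)
    (hN : Nat.card (MulAut L) ∣ n * k) : ∃ t, t ∣ k ∧ Nat.card A = n * t := by
  obtain ⟨t, ht⟩ := hsoc.card_dvd
  rw [hn] at ht
  refine ⟨t, ?_, ht⟩
  have h1 := (card_dvd_aut hsoc).trans hN
  rw [ht] at h1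
  exact Nat.dvd_of_mul_dvd_mul_left hn0 h1

theorem card_l13 : Nat.card (Matrix.ProjectiveSpecialLinearGroup (Fin 2) (ZMod 13)) = 1092 := by
  have : Fact (Nat.Prime 13) := ⟨by norm_num⟩
  have h := Cfsg.Agent.SmallSimple.PSLTwoPart.card_psl_two_odd (F := ZMod 13) (by rw [ZMod.card]; decide)
  rw [ZMod.card] at h
  omega

theorem card_l33 : Nat.card (Matrix.ProjectiveSpecialLinearGroup (Fin 3) (ZMod 3)) = 5616 := by
  have : Fact (Nat.Prime 3) := ⟨Nat.prime_three⟩
  have h := Cfsg.Agent.S0243.result (F := ZMod 3) (q := 3) (by rw [ZMod.card]) 3 (by norm_num)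
  rw [Fin.prod_univ_three, show Nat.gcd 3 (3 - 1) = 1 by decide] at h
  norm_num at h
  rw [Nat.card_eq_fintype_card]
  omega

/-- `L_2(11)` -/
theorem le_l11 (hs : IsSimpleGroup Q) (h : EPT A Γ)
    (hsoc : HasSoc A (Matrix.ProjectiveSpecialLinearGroup (Fin 2) (ZMod 11))) : Nat.card Q ≤ 10 ^ 11 := by
  have : Fact (Nat.Prime 11) := ⟨by norm_num⟩
  have hL : IsSimpleGroup (Matrix.ProjectiveSpecialLinearGroup (Fin 2) (ZMod 11)) :=
    Matrix.ProjectiveSpecialLinearGroup.rank_two_simple'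
      (Cfsg.Agent.SignalizersComponents.SLQuasisimple.exists_sq_ne_one (by rw [Nat.card_zmod]; norm_num))
  have hLn := not_comm_of_simple hL Cfsg.Agent.H852.NCPsl11.card_psl (by norm_num)
  obtain ⟨t, ht, hA⟩ := card_of_soc hsoc Cfsg.Agent.H852.NCPsl11.card_psl (by norm_num) (k := 2)
    (by rw [Cfsg.Agent.H852.NCPsl11.card_aut])
  rcases (Nat.dvd_prime Nat.prime_two).1 ht with rfl | rfl
  · exact index_mul_le hs h hsoc hL hLn [(2, 2), (3, 1), (5, 1), (11, 1)] hA (by norm_num) (by decide) (by norm_num)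
      (by norm_num) (g := 7) (by decide +kernel) (by norm_num)
  · exact index_mul_le hs h hsoc hL hLn [(2, 3), (3, 1), (5, 1), (11, 1)] hA (by norm_num) (by decide) (by norm_num)
      (by norm_num) (g := 18) (by decide +kernel) (by norm_num)

/-- `L_2(13)` -/
theorem le_l13 (hs : IsSimpleGroup Q) (h : EPT A Γ)
    (hsoc : HasSoc A (Matrix.ProjectiveSpecialLinearGroup (Fin 2) (ZMod 13))) : Nat.card Q ≤ 10 ^ 12 := by
  have : Fact (Nat.Prime 13) := ⟨by norm_num⟩
  have hL : IsSimpleGroup (Matrix.ProjectiveSpecialLinearGroup (Fin 2) (ZMod 13)) :=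
    Matrix.ProjectiveSpecialLinearGroup.rank_two_simple'
      (Cfsg.Agent.SignalizersComponents.SLQuasisimple.exists_sq_ne_one (by rw [Nat.card_zmod]; norm_num))
  have hLn := not_comm_of_simple hL card_l13 (by norm_num)
  obtain ⟨t, ht, hA⟩ := card_of_soc hsoc card_l13 (by norm_num) (k := 2) (by rw [card_aut_l13])
  rcases (Nat.dvd_prime Nat.prime_two).1 ht with rfl | rfl
  · exact index_mul_le hs h hsoc hL hLn [(2, 2), (3, 1), (7, 1), (13, 1)] hA (by norm_num) (by decide) (by norm_num)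
      (by norm_num) (g := 7) (by decide +kernel) (by norm_num)
  · exact index_mul_le hs h hsoc hL hLn [(2, 3), (3, 1), (7, 1), (13, 1)] hA (by norm_num) (by decide) (by norm_num)
      (by norm_num) (g := 18) (by decide +kernel) (by norm_num)

/-- `L_3(3)` -/
theorem le_l33 (hs : IsSimpleGroup Q) (h : EPT A Γ)
    (hsoc : HasSoc A (Matrix.ProjectiveSpecialLinearGroup (Fin 3) (ZMod 3))) : Nat.card Q ≤ 10 ^ 16 := by
  have : Fact (Nat.Prime 3) := ⟨Nat.prime_three⟩
  have hL : IsSimpleGroup (Matrix.ProjectiveSpecialLinearGroup (Fin 3) (ZMod 3)) :=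
    Cfsg.Agent.S0249.result 3 (by norm_num)
  have hLn := not_comm_of_simple hL card_l33 (by norm_num)
  obtain ⟨t, ht, hA⟩ := card_of_soc hsoc card_l33 (by norm_num) (k := 4) card_aut_l33
  have ht' : t = 1 ∨ t = 2 ∨ t = 4 := by
    have h1 := (Nat.dvd_prime_pow Nat.prime_two (m := 2)).1 (by simpa using ht)
    obtain ⟨k, hk, rfl⟩ := h1
    interval_cases k <;> norm_num
  rcases ht' with rfl | rfl | rfl
  · exact index_mul_le hs h hsoc hL hLn [(2, 4), (3, 3), (13, 1)] hA (by norm_num) (by decide) (by norm_num)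
      (by norm_num) (g := 94) (by decide +kernel) (by norm_num)
  · exact index_mul_le hs h hsoc hL hLn [(2, 5), (3, 3), (13, 1)] hA (by norm_num) (by decide) (by norm_num)
      (by norm_num) (g := 401) (by decide +kernel) (by norm_num)
  · exact index_mul_le hs h hsoc hL hLn [(2, 6), (3, 3), (13, 1)] hA (by norm_num) (by decide) (by norm_num)
      (by norm_num) (g := 2852) (by decide +kernel) (by norm_num)

theorem two_gen : Cfsg.Agent.H212.EP.TwoGenAll.{0} := fun _ _ _ _ => Cfsg.Agent.S3948.result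

theorem simple_alt {n : ℕ} (hn : 5 ≤ n) : IsSimpleGroup (alternatingGroup (Fin n)) := by
  have : Fact (5 ≤ Nat.card (Fin n)) := ⟨by rwa [Nat.card_eq_fintype_card, Fintype.card_fin]⟩
  exact alternatingGroup.isSimpleGroup (by rwa [Nat.card_eq_fintype_card, Fintype.card_fin])

theorem card_a13 : Nat.card (alternatingGroup (Fin 13)) = 3113510400 := by
  rw [nat_card_alternatingGroup, Nat.card_eq_fintype_card, Fintype.card_fin]
  rfl

theorem card_a14 : Nat.card (alternatingGroup (Fin 14)) = 43589145600 := by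
  rw [nat_card_alternatingGroup, Nat.card_eq_fintype_card, Fintype.card_fin]
  rfl

/-- `A_13` -/
theorem le_a13 (hs : IsSimpleGroup Q) (h : EPT A Γ) (hsoc : HasSoc A (alternatingGroup (Fin 13))) :
    Nat.card Q ≤ 9 * 10 ^ 44 := by
  have hA : Nat.card A ∣ 6227020800 := (card_dvd_aut hsoc).trans (card_aut_alt (by norm_num))
  have h1 := Cfsg.Agent.H212.EP.index_le_of_dvd two_gen hs h (N := 6227020800) (by norm_num) hA
    (l := [(2, 10), (3, 5), (5, 2), (7, 1), (11, 1), (13, 1)]) (fun p hp hd => ?_) (k := 2)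
    (Cfsg.Agent.H212.EP.pow_not_dvd (m := 1840) (by norm_num) (by norm_num) (by decide +kernel)) (μ := 6) (by norm_num)
    (Cfsg.Agent.H212.EP.six_le h fun K hK hKn hKab =>
      hsoc.no_abelian (simple_alt (by norm_num)) (not_comm_of_simple (simple_alt (by norm_num)) card_a13 (by norm_num))
        hK hKn hKab)
  · have h2 : Cfsg.Agent.H212.EP.spl 6227020800 [(2, 10), (3, 5), (5, 2), (7, 1), (11, 1), (13, 1)] ≤ 2 * 10 ^ 21 := by
      decide +kernel
    have h3 := Nat.le_of_dvd (by norm_num) hA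
    rw [← A.card_mul_index]
    refine (Nat.mul_le_mul_right _ h3).trans ?_
    have h4 : 60 ^ 2 * A.index ≤ 60 ^ 2 + (60 ^ 2 * (2 * 10 ^ 21) + 6227020800 ^ (2 + 1)) * (2 * (6227020800 / 6)) :=
      h1.trans (Nat.add_le_add_left (Nat.mul_le_mul_right _ (Nat.add_le_add_right (Nat.mul_le_mul_left _ h2) _)) _)
    norm_num at h4 ⊢
    omega
  · have h13 : p ≤ 13 := (Nat.Prime.dvd_factorial hp).1 (show p ∣ Nat.factorial 13 from hd)
    have h2 := hp.two_le
    interval_cases p <;> try (exfalso; revert hp; norm_num; done)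
    · exact ⟨10, by simp, by norm_num, by norm_num⟩
    · exact ⟨5, by simp, by norm_num, by norm_num⟩
    · exact ⟨2, by simp, by norm_num, by norm_num⟩
    · exact ⟨1, by simp, by norm_num, by norm_num⟩
    · exact ⟨1, by simp, by norm_num, by norm_num⟩
    · exact ⟨1, by simp, by norm_num, by norm_num⟩

theorem cubes_fourteen : ∀ n < 4435, 60 ≤ n → ¬ n ^ (2 + 1) ∣ 87178291200 := by
  have a1 : ∀ k < 1500, ¬ (60 + k) ^ (2 + 1) ∣ 87178291200 := by decide +kernel
  have a2 : ∀ k < 1500, ¬ (1560 + k) ^ (2 + 1) ∣ 87178291200 := by decide +kernel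
  have a3 : ∀ k < 1400, ¬ (3060 + k) ^ (2 + 1) ∣ 87178291200 := by decide +kernel
  intro n hn h60
  rcases Nat.lt_or_ge n 1560 with h1 | h1
  · have h2 := a1 (n - 60) (by omega)
    rwa [show 60 + (n - 60) = n by omega] at h2
  rcases Nat.lt_or_ge n 3060 with h3 | h3
  · have h2 := a2 (n - 1560) (by omega)
    rwa [show 1560 + (n - 1560) = n by omega] at h2
  · have h2 := a3 (n - 3060) (by omega)
    rwa [show 3060 + (n - 3060) = n by omega] at h2

/-- `A_14` -/
theorem le_a14 (hs : IsSimpleGroup Q) (h : EPT A Γ) (hsoc : HasSoc A (alternatingGroup (Fin 14))) :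
    Nat.card Q ≤ 10 ^ 51 := by
  have hA : Nat.card A ∣ 87178291200 := (card_dvd_aut hsoc).trans (card_aut_alt (by norm_num))
  have h1 := Cfsg.Agent.H212.EP.index_le_of_dvd two_gen hs h (N := 87178291200) (by norm_num) hA
    (l := [(2, 11), (3, 5), (5, 2), (7, 2), (11, 1), (13, 1)]) (fun p hp hd => ?_) (k := 2)
    (Cfsg.Agent.H212.EP.pow_not_dvd (m := 4435) (by norm_num) (by norm_num) cubes_fourteen) (μ := 6) (by norm_num)
    (Cfsg.Agent.H212.EP.six_le h fun K hK hKn hKab =>
      hsoc.no_abelian (simple_alt (by norm_num)) (not_comm_of_simple (simple_alt (by norm_num)) card_a14 (by norm_num))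
        hK hKn hKab)
  · have h2 : Cfsg.Agent.H212.EP.spl 87178291200 [(2, 11), (3, 5), (5, 2), (7, 2), (11, 1), (13, 1)] ≤ 10 ^ 25 := by
      decide +kernel
    have h3 := Nat.le_of_dvd (by norm_num) hA
    rw [← A.card_mul_index]
    refine (Nat.mul_le_mul_right _ h3).trans ?_
    have h4 : 60 ^ 2 * A.index ≤ 60 ^ 2 + (60 ^ 2 * 10 ^ 25 + 87178291200 ^ (2 + 1)) * (2 * (87178291200 / 6)) :=
      h1.trans (Nat.add_le_add_left (Nat.mul_le_mul_right _ (Nat.add_le_add_right (Nat.mul_le_mul_left _ h2) _)) _)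
    norm_num at h4 ⊢
    omega
  · have h13 : p ≤ 14 := (Nat.Prime.dvd_factorial hp).1 (show p ∣ Nat.factorial 14 from hd)
    have h2 := hp.two_le
    interval_cases p <;> try (exfalso; revert hp; norm_num; done)
    · exact ⟨11, by simp, by norm_num, by norm_num⟩
    · exact ⟨5, by simp, by norm_num, by norm_num⟩
    · exact ⟨2, by simp, by norm_num, by norm_num⟩
    · exact ⟨2, by simp, by norm_num, by norm_num⟩
    · exact ⟨1, by simp, by norm_num, by norm_num⟩
    · exact ⟨1, by simp, by norm_num, by norm_num⟩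

/-- **The row S5875**, `Ω_12^-(q)`. -/
theorem row_twelve_minus (hs : IsSimpleGroup Q) (h : EPT A Γ) {F : Type} [Field F] [Fintype F]
    {Qf : (Fin 12 → F) → F} (m : Model Q (omegaGL Qf)) (hQ : IsNondegenerateQuadraticForm Qf)
    (hminus : ¬ IsPlusTypeOn Qf ⊤) (hres : InOrthogonalResidualClass (m.hat A))
    (hnat : Fintype.card F = 2 → HasSoc A (alternatingGroup (Fin 13)) → False) : False := by
  obtain ⟨P, p, hc, hp, hch, hcases⟩ := Cfsg.Agent.S5875.result Qf hQ hminus (m.hat A) (m.isMaximalIn h.max) hres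
  have hsoc := hasSoc_of_core m hc
  have hge := fun (q : ℕ) (hq : q ≤ Fintype.card F) =>
    card_model_ge m hQ (k := 6) (by norm_num) (by rw [Fintype.card_fin]) hq
  have hge2 := hge 2 Fintype.one_lt_card
  rw [Finset.prod_range_succ, Finset.prod_range_succ, Finset.prod_range_succ, Finset.prod_range_succ,
    Finset.prod_range_succ, Finset.prod_range_zero] at hge2
  norm_num at hge2
  rcases hcases with ⟨⟨e⟩, -⟩ | ⟨⟨e⟩, -⟩ | ⟨⟨e⟩, -⟩ | ⟨⟨e⟩, hF, hp7, hp13⟩ | ⟨⟨e⟩, hF⟩
  · have h1 := le_l11 hs h (hsoc.congr e)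
    omega
  · have h1 := le_l13 hs h (hsoc.congr e)
    omega
  · have h1 := le_l33 hs h (hsoc.congr e)
    omega
  · have hsoc' := hsoc.congr e
    by_cases h2 : Fintype.card F = 2
    · exact hnat h2 hsoc'
    have h5 : 5 ≤ Fintype.card F := by
      rw [hF] at h2 ⊢
      have := hp.two_le
      omega
    have h6 := (hge 5 h5).trans (Nat.mul_le_mul_left 4 (le_a13 hs h hsoc'))
    rw [Finset.prod_range_succ, Finset.prod_range_succ, Finset.prod_range_succ, Finset.prod_range_succ,
      Finset.prod_range_succ, Finset.prod_range_zero] at h6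
    norm_num at h6
  · have hsoc' := hsoc.congr e
    have h6 := (hge 7 hF.ge).trans (Nat.mul_le_mul_left 4 (le_a14 hs h hsoc'))
    rw [Finset.prod_range_succ, Finset.prod_range_succ, Finset.prod_range_succ, Finset.prod_range_succ,
      Finset.prod_range_succ, Finset.prod_range_zero] at h6
    norm_num at h6

end Rows

end Cfsg.Agent.H87.EPR
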