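import Cfsg.Agent.H87.EPR.RowTwelveMinus
import Cfsg.Agent.H575.NA.Row

/-!
# S3499: the row S5875, `Ω_12^-(q)`, unconditional (helper87, with helper575's `nat_hasSoc`)
-/

set_option autoImplicit false

namespace Cfsg.Agent.H87.EPR

open Cfsg Cfsg.Geo Cfsg.Agent.H419.EP Cfsg.Agent.H284

/-- **The row S5875, unconditional.** -/
theorem row_S5875 {Q : Type} [Group Q] [Finite Q] {A : Subgroup Q} {Γ : Subgroup (MulAut Q)}
    (hs : IsSimpleGroup Q) (h : EPT A Γ) {F : Type} [Field F] [Fintype F]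
    {Qf : (Fin 12 → F) → F} (m : Model Q (omegaGL Qf)) (hQ : IsNondegenerateQuadraticForm Qf)
    (hminus : ¬ IsPlusTypeOn Qf ⊤) (hres : InOrthogonalResidualClass (m.hat A)) : False :=
  row_twelve_minus hs h m hQ hminus hres fun hF hsoc =>
    Cfsg.Agent.H575.NA.nat_hasSoc hs h m hQ hres hF (by rw [Fintype.card_fin]) (by norm_num) hsoc

end Cfsg.Agent.H87.EPR
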